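import Mathlib
import Cfsg.Agent.Lib.KB.E9

/-!
# Heights in blocks with defect group `C₂⁴` and inertial quotient `C₃ × C₃`
-/

set_option autoImplicit false
set_option linter.unusedSectionVars false

namespace CfsgLib.H16

section pure

open CfsgLib.Tame CfsgLib.KB Finset

variable {ι : Type*} [DecidableEq ι] {S : Finset ι} {d : ι → ℤ} {x y : Fin 3 → ι → ℤ}

theorem e9_par (dd : ip S d d = 16) (xx : ∀ i j, ip S (x i) (x j) = if i = j then 16 else 0)
    (dx : ∀ i, ip S d (x i) = 0) {ψ : ι} (hψ : ψ ∈ S) {T : ι → ℤ}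
    (hT : ∀ b ∈ S, 4 * T b = d ψ * d b + ∑ i, x i ψ * x i b) :
    Even (ip (S.filter fun i => ¬ Odd (d i)) T T) := by
  simp only [Fin.sum_univ_three] at hT
  have h00 := xx 0 0
  have h11 := xx 1 1
  have h22 := xx 2 2
  have h01 := xx 0 1
  have h02 := xx 0 2
  have h12 := xx 1 2
  have d0 := dx 0
  have d1 := dx 1
  have d2 := dx 2
  simp only [if_true, Fin.reduceEq, if_false] at h00 h11 h22 h01 h02 h12
  have e1 : 16 * ip S T T = d ψ * d ψ * ip S d d + x 0 ψ * x 0 ψ * ip S (x 0) (x 0) +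
      x 1 ψ * x 1 ψ * ip S (x 1) (x 1) + x 2 ψ * x 2 ψ * ip S (x 2) (x 2) +
      2 * (d ψ * x 0 ψ) * ip S d (x 0) + 2 * (d ψ * x 1 ψ) * ip S d (x 1) +
      2 * (d ψ * x 2 ψ) * ip S d (x 2) + 2 * (x 0 ψ * x 1 ψ) * ip S (x 0) (x 1) +
      2 * (x 0 ψ * x 2 ψ) * ip S (x 0) (x 2) + 2 * (x 1 ψ * x 2 ψ) * ip S (x 1) (x 2) := by
    simp only [ip, mul_sum, ← sum_add_distrib]
    refine sum_congr rfl fun b hb => ?_
    have := hT b hb
    calc 16 * (T b * T b) = (4 * T b) * (4 * T b) := by ring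
      _ = _ := by rw [this]; ring
  have e2 : 4 * ip S T d = d ψ * ip S d d + x 0 ψ * ip S d (x 0) + x 1 ψ * ip S d (x 1) +
      x 2 ψ * ip S d (x 2) := by
    simp only [ip, mul_sum, ← sum_add_distrib]
    refine sum_congr rfl fun b hb => ?_
    have := hT b hb
    calc 4 * (T b * d b) = (4 * T b) * d b := by ring
      _ = _ := by rw [this]; ring
  rw [dd, h00, h11, h22, h01, h02, h12, d0, d1, d2] at e1
  rw [dd, d0, d1, d2] at e2
  have e3 := hT ψ hψ
  have e4 : ip S T T = 4 * T ψ := by linarith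
  have e5 : ip S T d = 4 * d ψ := by linarith
  have s1 := ip_split (S := S) (fun i => Odd (d i)) T T
  have s2 := ip_split (S := S) (fun i => Odd (d i)) T d
  have p1 : Even (ip (S.filter fun i => Odd (d i)) T T - ip (S.filter fun i => Odd (d i)) T d) := by
    rw [ip, ip, ← sum_sub_distrib]
    refine even_sum _ fun b hb => ?_
    have := (mem_filter.1 hb).2
    rcases Int.even_or_odd (T b) with h | h
    · exact (h.mul_right _).sub (h.mul_right _)
    · exact (h.mul h).sub_odd (h.mul this)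
  have p2 : Even (ip (S.filter fun i => ¬ Odd (d i)) T d) :=
    even_sum _ fun b hb => (Int.not_odd_iff_even.1 (mem_filter.1 hb).2).mul_left _
  obtain ⟨m, hm⟩ := p1
  obtain ⟨n, hn⟩ := p2
  exact ⟨2 * T ψ - 2 * d ψ + n - m, by linarith⟩

theorem e9_sgn {p z u u' v v' t t' : ℤ} (hp : p * p = 1) (hz : z * z = 1) (hu : u * u = 4)
    (hu' : u' * u' = 4) (hv : v * v = 4) (hv' : v' * v' = 4) (ht : 4 * t = p * u + z * v)
    (ht' : 4 * t' = p * u' + z * v') (he : Even (t * t + t' * t')) : u * v = u' * v' := by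
  have h0 : (u * v - u' * v') * (u * v + u' * v') = 0 := by
    linear_combination (v * v) * hu + 4 * hv - (v' * v') * hu' - 4 * hv'
  rcases mul_eq_zero.1 h0 with h | h
  · linarith
  · exfalso
    have a1 : 16 * (t * t) = 8 + 2 * (p * z) * (u * v) := by
      linear_combination (4 * t + p * u + z * v) * ht + (u * u) * hp + hu + (v * v) * hz + hv
    have a2 : 16 * (t' * t') = 8 + 2 * (p * z) * (u' * v') := by
      linear_combination (4 * t' + p * u' + z * v') * ht' + (u' * u') * hp + hu' +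
        (v' * v') * hz + hv'
    have a3 : t * t + t' * t' = 1 := by
      have : 16 * (t * t + t' * t') = 16 := by linear_combination a1 + a2 + 2 * (p * z) * h
      omega
    rw [a3] at he
    exact Int.not_even_one he

theorem e9_two {u v : ℤ} (hu : ¬ Odd u) (hv : ¬ Odd v) (h : u * u + v * v = 8) :
    u * u = 4 ∧ v * v = 4 := by
  obtain ⟨a, rfl⟩ := Int.not_odd_iff_even.1 hu
  obtain ⟨b, rfl⟩ := Int.not_odd_iff_even.1 hv
  have h1 : a * a + b * b = 2 := by linarith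
  have ha : -2 < a ∧ a < 2 := by constructor <;> nlinarith
  have hb : -2 < b ∧ b < 2 := by constructor <;> nlinarith
  obtain ⟨ha1, ha2⟩ := ha
  obtain ⟨hb1, hb2⟩ := hb
  interval_cases a <;> interval_cases b <;> simp_all

theorem e9_m8 {u z : ℤ} (hu : u = 0 ∨ u * u = 4) (hz : Odd z) : (8 : ℤ) ∣ 2 * (u * z) - u * u := by
  obtain ⟨k, rfl⟩ := hz
  rcases hu with rfl | hu
  · simp
  · have : (u - 2) * (u + 2) = 0 := by linear_combination hu
    rcases mul_eq_zero.1 this with h | h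
    · obtain rfl : u = 2 := by linarith
      exact ⟨k, by ring⟩
    · obtain rfl : u = -2 := by linarith
      exact ⟨-k - 1, by ring⟩

variable {a a' : ι} (hE : (S.filter fun i => ¬ Odd (d i)) = {a, a'}) (haa : a ≠ a')
  (hO : (S.filter fun i => Odd (d i)).card = 8)
include hE haa hO

theorem e9_col {c : ι → ℤ} (h1 : ip S c c = 16) (h2 : ∀ i ∈ S, Odd (c i) ↔ Odd (d i)) :
    (c a = 0 ∧ c a' = 0) ∨ (c a * c a = 4 ∧ c a' * c a' = 4 ∧
      ip (S.filter fun i => Odd (d i)) c c = 8 ∧ ∀ ψ ∈ S, Odd (d ψ) → c ψ * c ψ = 1) := by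
  have ho : ∀ i ∈ S.filter fun i => Odd (d i), Odd (c i) := fun i hi =>
    (h2 i (mem_filter.1 hi).1).2 (mem_filter.1 hi).2
  have m1 := e9_mod ho
  have m2 : ∀ i ∈ S.filter fun i => Odd (d i), 1 ≤ c i * c i := fun i hi =>
    one_le_sq fun e => by simpa [e] using ho i hi
  have m3 := e9_le m2
  have hm : ∀ b ∈ ({a, a'} : Finset ι), ¬ Odd (c b) := fun b hb => by
    rw [← hE] at hb
    exact mt (h2 b (mem_filter.1 hb).1).1 (mem_filter.1 hb).2
  have s1 := ip_split (S := S) (fun i => Odd (d i)) c c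
  rw [hE, h1] at s1
  have s2 : ip {a, a'} c c = c a * c a + c a' * c a' := sum_pair haa
  rw [hO] at m1 m3
  have n1 := mul_self_nonneg (c a)
  have n2 := mul_self_nonneg (c a')
  push_cast at m1 m3
  by_cases h8 : ip (S.filter fun i => Odd (d i)) c c = 8
  · right
    obtain ⟨p, q⟩ := e9_two (hm a (by simp)) (hm a' (by simp)) (by linarith)
    refine ⟨p, q, h8, fun ψ hψ hd => (tight (g := fun _ => 1) (f := fun i => c i * c i) m2 ?_ ψ
      (mem_filter.2 ⟨hψ, hd⟩)).symm⟩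
    simpa [hO, ip] using h8.le
  · left
    have : c a * c a + c a' * c a' = 0 := by omega
    exact ⟨mul_self_eq_zero.1 (by linarith), mul_self_eq_zero.1 (by linarith)⟩

theorem e9_mem : a ∈ S ∧ a' ∈ S ∧ ¬ Odd (d a) ∧ ∃ ψ ∈ S, Odd (d ψ) := by
  have h1 : a ∈ S.filter fun i => ¬ Odd (d i) := by rw [hE]; simp
  have h2 : a' ∈ S.filter fun i => ¬ Odd (d i) := by rw [hE]; simp
  obtain ⟨ψ, hψ⟩ := card_pos.1 (show 0 < (S.filter fun i => Odd (d i)).card by omega)
  exact ⟨(mem_filter.1 h1).1, (mem_filter.1 h2).1, (mem_filter.1 h1).2, ψ, mem_filter.1 hψ⟩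

theorem e9_dcol (dd : ip S d d = 16) (ne : ∀ a ∈ S, d a ≠ 0) : d a * d a = 4 ∧ d a' * d a' = 4 ∧
    ip (S.filter fun i => Odd (d i)) d d = 8 ∧ ∀ ψ ∈ S, Odd (d ψ) → d ψ * d ψ = 1 :=
  (e9_col hE haa hO dd fun _ _ => Iff.rfl).resolve_left fun h => ne a (e9_mem hE haa hO).1 h.1

theorem e9_m (dd : ip S d d = 16) (ne : ∀ a ∈ S, d a ≠ 0)
    (xx : ∀ i j, ip S (x i) (x j) = if i = j then 16 else 0)
    (px : ∀ a ∈ S, ∀ i, Odd (x i a) ↔ Odd (d a))
    (cx : ∀ a ∈ S, ∀ b ∈ S, (4 : ℤ) ∣ d a * d b + ∑ i, x i a * x i b) :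
    (8 : ℤ) ∣ 4 + (x 0 a * x 0 a + x 1 a * x 1 a + x 2 a * x 2 a) := by
  obtain ⟨ha, -, -, ψ, hψ, ho⟩ := e9_mem hE haa hO
  have hd := (e9_dcol hE haa hO dd ne).1
  have hc := fun i => e9_m8 (u := x i a) (z := x i ψ)
    ((e9_col hE haa hO (c := x i) (by simp [xx]) fun b hb => px b hb i).imp And.left And.left)
    ((px ψ hψ i).2 ho)
  have h0 := e9_m8 (Or.inr hd) ho
  have h1 := cx a ha ψ hψ
  rw [Fin.sum_univ_three] at h1
  have c0 := hc 0
  have c1 := hc 1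
  have c2 := hc 2
  rw [hd] at h0
  omega

theorem e9_half (dd : ip S d d = 16) (ne : ∀ a ∈ S, d a ≠ 0)
    (xx : ∀ i j, ip S (x i) (x j) = if i = j then 16 else 0) (dx : ∀ i, ip S d (x i) = 0)
    (px : ∀ a ∈ S, ∀ i, Odd (x i a) ↔ Odd (d a))
    (cx : ∀ a ∈ S, ∀ b ∈ S, (4 : ℤ) ∣ d a * d b + ∑ i, x i a * x i b)
    (h4 : x 0 a * x 0 a + x 1 a * x 1 a + x 2 a * x 2 a = 4) :
    ∃ i, x i a * x i a = 4 ∧ x i a' * x i a' = 4 ∧
      ip (S.filter fun i => Odd (d i)) (x i) (x i) = 8 ∧ d a * x i a = d a' * x i a' := by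
  obtain ⟨ha, ha', -, ψ, hψ, ho⟩ := e9_mem hE haa hO
  obtain ⟨d1, d2, -, d4⟩ := e9_dcol hE haa hO dd ne
  have hc := fun i => e9_col hE haa hO (c := x i) (by simp [xx]) fun b hb => px b hb i
  choose! T hT using cx ψ hψ
  have hp := e9_par dd xx dx hψ (T := T) fun b hb => (hT b hb).symm
  rw [hE, show ip {a, a'} T T = T a * T a + T a' * T a' from sum_pair haa] at hp
  have t1 := hT a ha
  have t2 := hT a' ha'
  rw [Fin.sum_univ_three] at t1 t2
  rcases hc 0 with ⟨p0, q0⟩ | ⟨p0, q0, r0, s0⟩ <;> rcases hc 1 with ⟨p1, q1⟩ | ⟨p1, q1, r1, s1⟩ <;>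
    rcases hc 2 with ⟨p2, q2⟩ | ⟨p2, q2, r2, s2⟩
  · simp [p0, p1, p2] at h4
  · refine ⟨2, p2, q2, r2, e9_sgn (d4 ψ hψ ho) (s2 ψ hψ ho) d1 d2 p2 q2 ?_ ?_ hp⟩
    · rw [← t1, p0, p1]; ring
    · rw [← t2, q0, q1]; ring
  · refine ⟨1, p1, q1, r1, e9_sgn (d4 ψ hψ ho) (s1 ψ hψ ho) d1 d2 p1 q1 ?_ ?_ hp⟩
    · rw [← t1, p0, p2]; ring
    · rw [← t2, q0, q2]; ring
  · rw [p0, p1, p2] at h4; omega
  · refine ⟨0, p0, q0, r0, e9_sgn (d4 ψ hψ ho) (s0 ψ hψ ho) d1 d2 p0 q0 ?_ ?_ hp⟩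
    · rw [← t1, p1, p2]; ring
    · rw [← t2, q1, q2]; ring
  · rw [p0, p1, p2] at h4; omega
  · rw [p0, p1, p2] at h4; omega
  · rw [p0, p1, p2] at h4; omega

theorem e9_false (h : Sev S d x y) : False := by
  obtain ⟨ha, ha', -, -⟩ := e9_mem hE haa hO
  obtain ⟨d1, d2, d3, -⟩ := e9_dcol hE haa hO h.dd h.ne
  have b := (bessel (S := S) (Sum.elim x y) (fun _ => 1) (L := 16) (by norm_num) (by simp)
    (by rintro (s | s) <;> simp [h.xx, h.yy])
    (by
      rintro (s | s) (t | t) e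
      · simpa [h.xx] using e
      · exact h.xy s t
      · exact (ip_comm _ _).trans (h.xy t s)
      · simpa [h.yy] using e) ha).2 d (h.ne a ha) (by rintro (s | s); exacts [h.dx s, h.dy s])
  simp only [Fintype.sum_sum_type, Fin.sum_univ_three, Sum.elim_inl, Sum.elim_inr, one_mul] at b
  have mx := e9_m hE haa hO h.dd h.ne h.xx h.px h.cx
  have my := e9_m hE haa hO h.dd h.ne h.yy h.py h.cy
  have nx : 0 ≤ x 0 a * x 0 a + x 1 a * x 1 a + x 2 a * x 2 a := by
    nlinarith [mul_self_nonneg (x 0 a), mul_self_nonneg (x 1 a), mul_self_nonneg (x 2 a)]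
  have ny : 0 ≤ y 0 a * y 0 a + y 1 a * y 1 a + y 2 a * y 2 a := by
    nlinarith [mul_self_nonneg (y 0 a), mul_self_nonneg (y 1 a), mul_self_nonneg (y 2 a)]
  obtain ⟨i, x1, x2, x3, x4⟩ := e9_half hE haa hO h.dd h.ne h.xx h.dx h.px h.cx (by omega)
  obtain ⟨j, y1, y2, y3, y4⟩ := e9_half hE haa hO h.dd h.ne h.yy h.dy h.py h.cy (by omega)
  have sp : ∀ f g : ι → ℤ, ip S f g =
      ip (S.filter fun i => Odd (d i)) f g + (f a * g a + f a' * g a') := fun f g => by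
    rw [ip_split (S := S) (fun i => Odd (d i)), hE]
    exact congrArg _ (sum_pair haa)
  have s1 := sp d (x i)
  have s2 := sp d (y j)
  have s3 := sp (x i) (y j)
  rw [h.dx] at s1
  rw [h.dy] at s2
  rw [h.xy] at s3
  set O := S.filter fun i => Odd (d i)
  obtain ⟨α, hα⟩ : ∃ α, α = d a * x i a := ⟨_, rfl⟩
  obtain ⟨β, hβ⟩ : ∃ β, β = d a * y j a := ⟨_, rfl⟩
  have a1 : α * α = 16 := by rw [hα]; linear_combination (x i a * x i a) * d1 + 4 * x1
  have a2 : β * β = 16 := by rw [hβ]; linear_combination (y j a * y j a) * d1 + 4 * y1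
  have a3 : 2 * ip O (x i) (y j) = -(α * β) := by
    have e1 : α * β = 4 * (x i a * y j a) := by
      rw [hα, hβ]; linear_combination (x i a * y j a) * d1
    have e2 : α * β = 4 * (x i a' * y j a') := by
      rw [hα, hβ, x4, y4]; linear_combination (x i a' * y j a') * d2
    linarith
  have a4 : ip O d (x i) = -2 * α := by linarith
  have a5 : ip O d (y j) = -2 * β := by linarith
  have pos : 0 ≤ ∑ b ∈ O, (α * x i b + β * y j b + 4 * d b) ^ 2 :=
    sum_nonneg fun _ _ => sq_nonneg _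
  have ex : ∑ b ∈ O, (α * x i b + β * y j b + 4 * d b) ^ 2 = α * α * ip O (x i) (x i) +
      β * β * ip O (y j) (y j) + 16 * ip O d d + α * β * (2 * ip O (x i) (y j)) +
      8 * α * ip O d (x i) + 8 * β * ip O d (y j) := by
    simp only [ip, mul_sum, ← sum_add_distrib]
    exact sum_congr rfl fun b _ => by ring
  rw [ex, x3, y3, d3, a3, a4, a5] at pos
  have : α * β * -(α * β) = -256 := by linear_combination -(β * β) * a1 - 16 * a2
  nlinarith

omit hE haa hO in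
theorem sev_odd (h : Sev S d x y) (h8 : 8 ≤ S.card) : ∀ a ∈ S, Odd (d a) := by
  by_cases h11 : 11 ≤ S.card
  · exact h.odd h11
  intro a ha
  by_contra hd
  have h1 := ip_split (S := S) (fun i => Odd (d i)) d d
  have h2 := e9_le (S := S.filter fun i => Odd (d i)) (c := d) (n := 1) fun b hb =>
    one_le_sq (h.ne b (mem_filter.1 hb).1)
  have h3 := e9_le (S := S.filter fun i => ¬ Odd (d i)) (c := d) (n := 4) fun b hb =>
    four_le_sq (h.ne b (mem_filter.1 hb).1) (mem_filter.1 hb).2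
  have h4 := card_filter_add_card_filter_not (s := S) fun i => Odd (d i)
  have hm : a ∈ S.filter fun i => ¬ Odd (d i) := mem_filter.2 ⟨ha, hd⟩
  have h5 := card_pos.2 ⟨a, hm⟩
  have h6 := e9_mod (S := S.filter fun i => Odd (d i)) (c := d) fun i hi => (mem_filter.1 hi).2
  have h7 : (4 : ℤ) ∣ ip (S.filter fun i => ¬ Odd (d i)) d d := dvd_sum fun b hb => by
    obtain ⟨m, hm⟩ := Int.not_odd_iff_even.1 (mem_filter.1 hb).2
    exact ⟨m * m, by rw [hm]; ring⟩
  rw [h.dd] at h1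
  have hO : (S.filter fun i => Odd (d i)).card = 8 := by omega
  have hE : (S.filter fun i => ¬ Odd (d i)).card = 1 ∨
      (S.filter fun i => ¬ Odd (d i)).card = 2 := by omega
  rcases hE with hE | hE
  · obtain ⟨b, hb⟩ := card_eq_one.1 hE
    obtain rfl : a = b := mem_singleton.1 (hb ▸ hm)
    have e : ip (S.filter fun i => ¬ Odd (d i)) d d = d a * d a := by rw [hb]; simp [ip]
    have := (e9_two (u := d a) (v := 0) hd (by decide) (by omega)).2
    omega
  · obtain ⟨b, b', hne, hb⟩ := card_eq_two.1 hE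
    exact e9_false hb hne hO h

end pure

attribute [local implicit_reducible] CfsgLib.Block.K

open Cfsg MonoidAlgebra CfsgLib.Char CfsgLib.Block CfsgLib.Blk CfsgLib.Star CfsgLib.Tame Subgroup
open CfsgLib.KB
open CfsgLib.BrPair (cS Cz Nz cj emb res IsBlk SubLE sB IsPair IsDef MaxPair Tr stN stC IsNil
  mem_Nz mem_Cz)
open scoped ComplexConjugate

variable {G : Type*} [Group G] [Fintype G] [∀ u : G, Fintype (Cu u)]
  {M : Ideal AlgInt} {hM : IsPModular 2 M} {B : Set (IrrCharacter G)} {P : Subgroup G}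
  {e : (K hM)[G]}

/-- All heights are zero for defect group `C₂⁴` and inertial quotient `C₃ × C₃`. -/
theorem ht_e9 (h : MaxPair 2 ⊤ ⊤ (eB hM B) P e) (hB : IsPBlock M B) (hab : P ≤ Cz P)
    {V W : Subgroup G} (hE : E9 (stN ⊤ P e) P V W) :
    ∀ χ ∈ B, blockHeight 2 B (χ : G → ℂ) = 0 := by
  classical
  obtain ⟨v, hv, hv1⟩ := hE.exists_ne
  obtain ⟨w, hw, hw1⟩ := hE.symm.exists_ne
  have hvP := hE.le hv
  have hwP := hE.symm.le hw
  have huP := mul_mem hvP hwP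
  have h1 : v ∉ W := fun h0 => hv1 (hE.eq_one hv h0)
  have h2 : w ∉ V := fun h0 => hw1 (hE.eq_one h0 hw)
  have h3 : v * w ∉ V := fun h0 => h2 ((mul_mem_cancel_left hv).1 h0)
  have h4 : v * w ∉ W := fun h0 => h1 ((mul_mem_cancel_right hw).1 h0)
  obtain ⟨hR, hs⟩ := e9_reps h hab hE hv hv1 hw hw1
  obtain ⟨Φ, TΦ⟩ := reg4_local h hab hvP (hE.regW v hv hv1) hE.cW
  obtain ⟨Ψ, TΨ⟩ := reg4_local h hab hwP (hE.regV w hw hw1) hE.cV
  obtain ⟨ξ, hξ⟩ := exists_uni_of_isNil_sub (isPBlock_bu h huP)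
    (ab_isNil_su h hab huP (hE.free hv hv1 hw hw1))
  obtain ⟨x, hx, xx, mx, ox⟩ := exists_tri_cols h hB hab hvP (hE.sq v hvP) hE.cP TΦ
  obtain ⟨y, hy, yy, my, oy⟩ := exists_tri_cols h hB hab hwP (hE.sq w hwP) hE.cP TΨ
  choose d hd using fun χ : IrrCharacter G => exists_int_of_mem_cycInt_two
    (orderOf_dvd_of_pow_eq_one (by rw [sq, hE.sq _ huP]))
    (gd_mem_cycInt hξ (isGenChar_of_isIrr χ.2))
  have h16 : ((2 : ℕ) : ℂ) ^ blockDefect 2 (bu hM P e (v * w)) = 16 := by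
    rw [← Nat.cast_pow, ab_pow_defect h hab huP, hE.cP]
    norm_num
  have hn := hξ.norm
  rw [h16, mm_eq_both] at hn
  let θ : Cu (v * w) → ℂ := (16 : ℂ) • pRegularPart 2 (ξ : Cu (v * w) → ℂ)
  have hθ : θ ∈ regSpan 2 (bu hM P e (v * w)) := Submodule.smul_mem _ _ (reg_mem_regSpan hξ.mem)
  have hθ' : ∀ χ : G → ℂ, IsClassFunction G χ →
      classInner (sp 2 (v * w) (bu hM P e (v * w)) χ) θ = gd (v * w) (bu hM P e (v * w)) χ :=
    fun χ hχ => by
      rw [sp_eq_gd hξ hχ, classInner_smul_left, classInner_smul_right, map_ofNat, hn, mul_one]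
  have hdθ : ∀ χ : IrrCharacter G, classInner (sp 2 (v * w) (bu hM P e (v * w)) χ) θ = d χ :=
    fun χ => by rw [hθ' _ (irr_isClassFunction χ), hd]
  have md : ∀ χ ψ : IrrCharacter G, 16 * mu 2 (v * w) (bu hM P e (v * w)) χ ψ = d χ * d ψ :=
    fun χ ψ => by
      rw [← h16, ← au, au_eq_gd hξ (irr_isClassFunction χ) (irr_isClassFunction ψ), hd, hd,
        map_intCast]
  have od : ∀ χ ∈ B, Odd (d χ) ↔ blockHeight 2 B (χ : G → ℂ) = 0 := fun χ hχ => by
    rw [← not_li_gd_iff hM (pElt_of_mem h huP) (induced_bu h hB huP) hξ hχ, hd, li_intCast_iff hM,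
      ← Int.not_even_iff_odd, even_iff_two_dvd, Nat.cast_ofNat]
  have S : Sev (bf B) d x y := by
    refine ⟨?_, xx, yy, fun i => ip_eq_zero h hB huP hvP (fun h0 => h3 ?_) hθ (TΦ.mem i) hdθ (hx i),
      fun i => ip_eq_zero h hB huP hwP (fun h0 => h4 ?_) hθ (TΨ.mem i) hdθ (hy i),
      fun i j => ip_eq_zero h hB hvP hwP (fun h0 => h1 ?_) (TΦ.mem i) (TΨ.mem j) (hx i) (hy j),
      fun χ hχ h0 => ?_, fun χ hχ i => ?_, fun χ hχ i => ?_, fun χ hχ ψ _ => ?_,
      fun χ hχ ψ _ => ?_⟩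
    · have := sum_gd_mul_conj hM (pElt_of_mem h huP) (induced_bu h hB huP) hξ
      simp only [hd, map_intCast, h16] at this
      exact_mod_cast this
    · exact (e9_mem_iff h hab hE h0).1 hv
    · exact (e9_mem_iff h hab hE.symm h0).1 hw
    · exact (e9_mem_iff h hab hE.symm h0).1 hw
    · refine sp_ne_zero_of_major hM (pElt_of_mem h huP) (induced_bu h hB huP)
        (defect_bu_of_central h hB huP (ab_le_Cu h hab huP)) (mem_bf.1 hχ) ?_
      rw [sp_eq_gd hξ (irr_isClassFunction χ), hd, h0, Int.cast_zero, zero_smul]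
    · rw [ox χ (mem_bf.1 hχ), od χ (mem_bf.1 hχ)]
    · rw [oy χ (mem_bf.1 hχ), od χ (mem_bf.1 hχ)]
    · obtain ⟨n, hn⟩ := e9_cong h hB hab hE hv hv1 hw hw1 (ψ := ψ) (mem_bf.1 hχ)
      rw [md, mx] at hn
      exact ⟨n, by exact_mod_cast hn⟩
    · obtain ⟨n, hn⟩ := e9_cong h hB hab hE.symm hw hw1 hv hv1 (ψ := ψ) (mem_bf.1 hχ)
      rw [mem_Cz.1 (hab hvP) w hwP, md, my] at hn
      exact ⟨n, by exact_mod_cast hn⟩
  have h8 : 8 ≤ (bf B).card := by
    have h5 := hs fun u => (blockRank 2 (bu hM P e u) : ℂ)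
    rw [← Nat.cast_sum, ← card_eq_sum_reps h hB hR, rank_bu_one h hB, TΦ.rank, TΨ.rank, hξ.rank,
      card_bf] at h5
    have h6 : (bf B).card = blockRank 2 B + 3 + 3 + 1 := by exact_mod_cast h5
    have h7 := one_le_rank_bu h P.one_mem
    rw [rank_bu_one h hB] at h7
    omega
  exact fun χ hχ => (od χ hχ).1 (sev_odd S h8 χ (mem_bf.2 hχ))

end CfsgLib.H16
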