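import Mathlib
import Cfsg.Agent.Lib.KB.E9
import Cfsg.Agent.Lib.H16.E9bL

/-!
# Height zero for blocks with defect group `C₂⁴` and inertial quotient `C₃ × C₃`
-/

set_option autoImplicit false
set_option linter.unusedSectionVars false

namespace CfsgLib.H16

attribute [local implicit_reducible] CfsgLib.Block.K

open Cfsg MonoidAlgebra CfsgLib.Char CfsgLib.Block CfsgLib.Blk CfsgLib.Star CfsgLib.Tame Subgroup
open CfsgLib.KB
open CfsgLib.BrPair (cS Cz Nz cj emb res IsBlk SubLE sB IsPair IsDef MaxPair Tr stN stC IsNil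
  mem_Nz mem_Cz)
open scoped ComplexConjugate

variable {G : Type*} [Group G] [Fintype G] [∀ u : G, Fintype (Cu u)]
  {M : Ideal AlgInt} {hM : IsPModular 2 M} {B : Set (IrrCharacter G)} {P : Subgroup G}
  {e : (K hM)[G]}

theorem ht_of_e9 (h : MaxPair 2 ⊤ ⊤ (eB hM B) P e) (hB : IsPBlock M B) (hab : P ≤ Cz P)
    {V W : Subgroup G} (hE : E9 (stN ⊤ P e) P V W) :
    ∀ χ ∈ B, blockHeight 2 B (χ : G → ℂ) = 0 := by
  classical
  obtain ⟨v, hv, hv1⟩ := hE.exists_ne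
  obtain ⟨w, hw, hw1⟩ := hE.symm.exists_ne
  have hvP := hE.le hv
  have hwP := hE.symm.le hw
  have huP := mul_mem hvP hwP
  have h1 : v ∉ W := fun h0 => hv1 (hE.eq_one hv h0)
  have h2 : w ∉ V := fun h0 => hw1 (hE.eq_one h0 hw)
  have h3 : v * w ∉ V := fun h0 => h2 ((mul_mem_cancel_left hv).1 h0)
  have h4 : v * w ∉ W := fun h0 => h1 ((mul_mem_cancel_right hw).1 h0)
  obtain ⟨hR, hs⟩ := e9_reps h hab hE hv hv1 hw hw1
  obtain ⟨Φ, TΦ⟩ := reg4_local h hab hvP (hE.regW v hv hv1) hE.cW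
  obtain ⟨Ψ, TΨ⟩ := reg4_local h hab hwP (hE.regV w hw hw1) hE.cV
  obtain ⟨ξ, hξ⟩ := exists_uni_of_isNil_sub (isPBlock_bu h huP)
    (ab_isNil_su h hab huP (hE.free hv hv1 hw hw1))
  obtain ⟨x, hx, xx, mx, ox⟩ := exists_tri_cols h hB hab hvP (hE.sq v hvP) hE.cP TΦ
  obtain ⟨y, hy, yy, my, oy⟩ := exists_tri_cols h hB hab hwP (hE.sq w hwP) hE.cP TΨ
  choose d hd using fun χ : IrrCharacter G => exists_int_of_mem_cycInt_two
    (orderOf_dvd_of_pow_eq_one (by rw [sq, hE.sq _ huP]))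
    (gd_mem_cycInt hξ (isGenChar_of_isIrr χ.2))
  have h16 : ((2 : ℕ) : ℂ) ^ blockDefect 2 (bu hM P e (v * w)) = 16 := by
    rw [← Nat.cast_pow, ab_pow_defect h hab huP, hE.cP]
    norm_num
  have hn := hξ.norm
  rw [h16, mm_eq_both] at hn
  let θ : Cu (v * w) → ℂ := (16 : ℂ) • pRegularPart 2 (ξ : Cu (v * w) → ℂ)
  have hθ : θ ∈ regSpan 2 (bu hM P e (v * w)) := Submodule.smul_mem _ _ (reg_mem_regSpan hξ.mem)
  have hθ' : ∀ χ : G → ℂ, IsClassFunction G χ →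
      classInner (sp 2 (v * w) (bu hM P e (v * w)) χ) θ = gd (v * w) (bu hM P e (v * w)) χ :=
    fun χ hχ => by
      rw [sp_eq_gd hξ hχ, classInner_smul_left, classInner_smul_right, map_ofNat, hn, mul_one]
  have hdθ : ∀ χ : IrrCharacter G, classInner (sp 2 (v * w) (bu hM P e (v * w)) χ) θ = d χ :=
    fun χ => by rw [hθ' _ (irr_isClassFunction χ), hd]
  have md : ∀ χ ψ : IrrCharacter G, 16 * mu 2 (v * w) (bu hM P e (v * w)) χ ψ = d χ * d ψ :=
    fun χ ψ => by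
      rw [← h16, ← au, au_eq_gd hξ (irr_isClassFunction χ) (irr_isClassFunction ψ), hd, hd,
        map_intCast]
  have od : ∀ χ ∈ B, Odd (d χ) ↔ blockHeight 2 B (χ : G → ℂ) = 0 := fun χ hχ => by
    rw [← not_li_gd_iff hM (pElt_of_mem h huP) (induced_bu h hB huP) hξ hχ, hd, li_intCast_iff hM,
      ← Int.not_even_iff_odd, even_iff_two_dvd, Nat.cast_ofNat]
  have S : Sev (bf B) d x y := by
    refine ⟨?_, xx, yy, fun i => ip_eq_zero h hB huP hvP (fun h0 => h3 ?_) hθ (TΦ.mem i) hdθ (hx i),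
      fun i => ip_eq_zero h hB huP hwP (fun h0 => h4 ?_) hθ (TΨ.mem i) hdθ (hy i),
      fun i j => ip_eq_zero h hB hvP hwP (fun h0 => h1 ?_) (TΦ.mem i) (TΨ.mem j) (hx i) (hy j),
      fun χ hχ h0 => ?_, fun χ hχ i => ?_, fun χ hχ i => ?_, fun χ hχ ψ _ => ?_,
      fun χ hχ ψ _ => ?_⟩
    · have := sum_gd_mul_conj hM (pElt_of_mem h huP) (induced_bu h hB huP) hξ
      simp only [hd, map_intCast, h16] at this
      exact_mod_cast this
    · exact (e9_mem_iff h hab hE h0).1 hv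
    · exact (e9_mem_iff h hab hE.symm h0).1 hw
    · exact (e9_mem_iff h hab hE.symm h0).1 hw
    · refine sp_ne_zero_of_major hM (pElt_of_mem h huP) (induced_bu h hB huP)
        (defect_bu_of_central h hB huP (ab_le_Cu h hab huP)) (mem_bf.1 hχ) ?_
      rw [sp_eq_gd hξ (irr_isClassFunction χ), hd, h0, Int.cast_zero, zero_smul]
    · rw [ox χ (mem_bf.1 hχ), od χ (mem_bf.1 hχ)]
    · rw [oy χ (mem_bf.1 hχ), od χ (mem_bf.1 hχ)]
    · obtain ⟨n, hn⟩ := e9_cong h hB hab hE hv hv1 hw hw1 (ψ := ψ) (mem_bf.1 hχ)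
      rw [md, mx] at hn
      exact ⟨n, by exact_mod_cast hn⟩
    · obtain ⟨n, hn⟩ := e9_cong h hB hab hE.symm hw hw1 hv hv1 (ψ := ψ) (mem_bf.1 hχ)
      rw [mem_Cz.1 (hab hvP) w hwP, md, my] at hn
      exact ⟨n, by exact_mod_cast hn⟩
  have h8 : 8 ≤ (bf B).card := by
    have h5 := hs fun u => (blockRank 2 (bu hM P e u) : ℂ)
    have h7 := one_le_rank_bu h P.one_mem
    rw [rank_bu_one h hB] at h7
    rw [← Nat.cast_sum, ← card_eq_sum_reps h hB hR, rank_bu_one h hB, TΦ.rank, TΨ.rank, hξ.rank,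
      card_bf] at h5
    have h6 : (bf B).card = blockRank 2 B + 3 + 3 + 1 := by exact_mod_cast h5
    omega
  exact fun χ hχ => (od χ hχ).1 (e9b_sev_odd S h8 χ (mem_bf.2 hχ))

end CfsgLib.H16
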