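import Mathlib

/-! # Three orthogonal columns of norm 16, congruent mod 4, with even orthogonal complement, are odd -/

set_option autoImplicit false

namespace CfsgLib.H16

open Finset

variable {ι : Type*} [Fintype ι]

theorem five_par (a r : ι → ℤ) (hr : ∑ i, r i * r i = 2) (har : ∑ i, r i * a i = 4) {i p : ι} (hi : r i ≠ 0)
    (hp : r p ≠ 0) : Even (a i + a p) := by
  classical
  by_cases e : i = p
  · subst e
    exact ⟨_, rfl⟩
  have h1 : 0 < r i * r i := mul_self_pos.2 hi
  have h2 : 0 < r p * r p := mul_self_pos.2 hp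
  have h3 : ∀ m, m ≠ i ∧ m ≠ p → r m = 0 := fun m hm => by
    have := sum_le_sum_of_subset_of_nonneg (subset_univ ({m, i, p} : Finset ι))
      (f := fun i => r i * r i) fun i _ _ => mul_self_nonneg _
    rw [hr, sum_insert (by simp [hm.1, hm.2]), sum_pair e] at this
    exact mul_self_eq_zero.1 (le_antisymm (by omega) (mul_self_nonneg _))
  rw [Fintype.sum_eq_add i p e fun m hm => by rw [h3 m hm, zero_mul]] at hr har
  have h4 : r i = 1 ∨ r i = -1 := mul_self_eq_one_iff.1 (by omega)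
  have h5 : r p = 1 ∨ r p = -1 := mul_self_eq_one_iff.1 (by omega)
  rw [Int.even_iff]
  rcases h4 with h4 | h4 <;> rcases h5 with h5 | h5 <;> rw [h4, h5] at har <;> omega

theorem five_root (a r s : ι → ℤ) (hr : ∑ i, r i * r i = 2) (hs : ∑ i, s i * s i = 2) (hrs : ∑ i, r i * s i = 1)
    (har : ∑ i, r i * a i = 4) (has : ∑ i, s i * a i = 4)
    (ev : ∀ x : ι → ℤ, ∑ i, x i * a i = 0 → ∑ i, x i * r i = 0 → ∑ i, x i * s i = 0 → Even (∑ i, x i * x i)) :
    ∃ i, ∀ p, Even (a i + a p) := by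
  classical
  obtain ⟨i, -, hi⟩ := exists_lt_of_sum_lt (s := univ) (f := fun _ => (0 : ℤ)) (g := fun i => r i * s i)
    (by rw [hrs]; simp)
  have b1 : r i * r i ≤ 2 := hr ▸ single_le_sum (f := fun i => r i * r i) (fun i _ => mul_self_nonneg _) (mem_univ i)
  have b2 : s i * s i ≤ 2 := hs ▸ single_le_sum (f := fun i => s i * s i) (fun i _ => mul_self_nonneg _) (mem_univ i)
  have b3 : s i = r i ∧ r i * r i = 1 := by
    have : r i ≤ 1 := by nlinarith
    have : -1 ≤ r i := by nlinarith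
    have : s i ≤ 1 := by nlinarith
    have : -1 ≤ s i := by nlinarith
    generalize r i = x at *
    generalize s i = y at *
    interval_cases x <;> interval_cases y <;> simp_all
  have ri : r i ≠ 0 := fun e => by simp [e] at b3
  refine ⟨i, fun p => ?_⟩
  by_cases h1 : r p ≠ 0
  · exact five_par a r hr har ri h1
  by_cases h2 : s p ≠ 0
  · exact five_par a s hs has (b3.1 ▸ ri) h2
  push Not at h1 h2
  have hsr : ∑ i, s i * r i = 1 := by simpa only [mul_comm] using hrs
  let x : ι → ℤ := fun m => a p * (3 * r i * (Pi.single i 1 : ι → ℤ) m - r m - s m) -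
    (3 * r i * a i - 8) * (Pi.single p 1 : ι → ℤ) m
  have hx : ∀ v : ι → ℤ, ∑ m, x m * v m =
      a p * (3 * r i * v i - ∑ m, r m * v m - ∑ m, s m * v m) - (3 * r i * a i - 8) * v p := fun v => by
    have k : ∀ j, ∑ m, (Pi.single j 1 : ι → ℤ) m * v m = v j := fun j => by
      simp [Pi.single_apply]
    rw [← k i, ← k p]
    simp only [x, mul_sum, ← sum_sub_distrib]
    exact sum_congr rfl fun m _ => by ring
  have e1 : ∑ m, x m * r m = 0 := by rw [hx, hr, hsr, h1, mul_assoc, b3.2]; ring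
  have e2 : ∑ m, x m * s m = 0 := by rw [hx, hrs, hs, h2, b3.1, mul_assoc, b3.2]; ring
  have ip : i ≠ p := fun e => ri (e ▸ h1)
  have := ev x (by rw [hx, har, has]; ring) e1 e2
  rw [hx, show ∑ m, r m * x m = 0 by simpa only [mul_comm] using e1,
    show ∑ m, s m * x m = 0 by simpa only [mul_comm] using e2] at this
  simp only [x, Pi.single_eq_same, Pi.single_eq_of_ne ip, Pi.single_eq_of_ne ip.symm, h1, h2, b3.1] at this
  rcases mul_self_eq_one_iff.1 b3.2 with e | e <;> rw [e] at this <;>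
    rcases Int.even_or_odd' (a i) with ⟨u, hu | hu⟩ <;> rcases Int.even_or_odd' (a p) with ⟨v, hv | hv⟩ <;>
    rw [hu, hv] at this ⊢ <;> first | (rw [Int.even_iff]; omega) | (exfalso; ring_nf at this; rw [Int.even_iff] at this; omega)

omit [Fintype ι] in
theorem five_div (a b : ι → ℤ)
    (s1 : ∀ i j, 4 ∣ a i * a j - b i * b j) {i0 : ι} (ho : Odd (a i0)) :
    ∃ (r : ι → ℤ) (e : ℤ), e * e = 1 ∧ ∀ i, 4 * r i = a i - e * b i := by
  obtain ⟨u, hu⟩ := ho
  have h0 := s1 i0 i0
  have : ∃ e : ℤ, e * e = 1 ∧ 4 ∣ a i0 - e * b i0 := by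
    rcases Int.even_or_odd' (b i0) with ⟨v, hv | hv⟩
    · rw [hu, hv] at h0
      ring_nf at h0
      omega
    · by_cases h : 4 ∣ a i0 - b i0
      · exact ⟨1, rfl, by simpa using h⟩
      · exact ⟨-1, rfl, by omega⟩
  obtain ⟨e, he, k, hk⟩ := this
  refine ⟨fun i => (a i - e * b i) / 4, e, he, fun i => Int.mul_ediv_cancel' ?_⟩
  obtain ⟨l, hl⟩ := s1 i i0
  have h1 : (a i - e * b i) * a i0 = 4 * (l - e * b i * k) := by
    linear_combination hl - e * b i * hk - b i * b i0 * he
  have h2 : IsCoprime (4 : ℤ) (a i0) := ⟨-(u * u + u), a i0, by rw [hu]; ring⟩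
  exact h2.dvd_of_dvd_mul_right ⟨_, h1⟩

theorem five (a b c : ι → ℤ) (ha : ∑ i, a i * a i = 16) (hb : ∑ i, b i * b i = 16) (hc : ∑ i, c i * c i = 16)
    (hab : ∑ i, a i * b i = 0) (hac : ∑ i, a i * c i = 0) (hbc : ∑ i, b i * c i = 0)
    (s1 : ∀ i j, 4 ∣ a i * a j - b i * b j) (s2 : ∀ i j, 4 ∣ a i * a j - c i * c j) {i0 : ι} (ho : Odd (a i0))
    (ev : ∀ x : ι → ℤ, ∑ i, x i * a i = 0 → ∑ i, x i * b i = 0 → ∑ i, x i * c i = 0 → Even (∑ i, x i * x i)) :
    ∀ i, Odd (a i) := by
  obtain ⟨r, e, he, hr⟩ := five_div a b s1 ho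
  obtain ⟨s, f, hf, hs⟩ := five_div a c s2 ho
  have kr : ∀ v : ι → ℤ, 4 * ∑ i, r i * v i = ∑ i, a i * v i - e * ∑ i, b i * v i := fun v => by
    simp only [mul_sum, ← sum_sub_distrib]
    exact sum_congr rfl fun i _ => by linear_combination v i * hr i
  have ks : ∀ v : ι → ℤ, 4 * ∑ i, s i * v i = ∑ i, a i * v i - f * ∑ i, c i * v i := fun v => by
    simp only [mul_sum, ← sum_sub_distrib]
    exact sum_congr rfl fun i _ => by linear_combination v i * hs i
  have cm : ∀ u v : ι → ℤ, ∑ i, u i * v i = ∑ i, v i * u i := fun u v => sum_congr rfl fun i _ => mul_comm _ _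
  have ra : ∑ i, r i * a i = 4 := by have := kr a; rw [ha, cm b a, hab] at this; omega
  have sa : ∑ i, s i * a i = 4 := by have := ks a; rw [ha, cm c a, hac] at this; omega
  have rb : ∑ i, r i * b i = -4 * e := by have := kr b; rw [hab, hb] at this; omega
  have sc : ∑ i, s i * c i = -4 * f := by have := ks c; rw [hac, hc] at this; omega
  have sb : ∑ i, s i * b i = 0 := by have := ks b; rw [hab, cm c b, hbc] at this; omega
  obtain ⟨i, hi⟩ := five_root a r s
    (by have := kr r; rw [cm a r, cm b r, ra, rb] at this; nlinarith)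
    (by have := ks s; rw [cm a s, cm c s, sa, sc] at this; nlinarith)
    (by have := kr s; rw [cm a s, cm b s, sa, sb] at this; omega) ra sa fun x h1 h2 h3 => by
      have k1 := kr x
      have k2 := ks x
      rw [cm r x, h2, cm a x, h1, cm b x] at k1
      rw [cm s x, h3, cm a x, h1, cm c x] at k2
      exact ev x h1 (by linear_combination e * k1 - (∑ i, x i * b i) * he)
        (by linear_combination f * k2 - (∑ i, x i * c i) * hf)
  intro p
  have h1 := hi p
  have h2 := hi i0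
  rw [Int.odd_iff] at ho ⊢
  rw [Int.even_iff] at h1 h2
  omega

end CfsgLib.H16
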