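import Cfsg.Agent.Lib.KB.Main
import Cfsg.Agent.Lib.KKL.Red

/-! Abelian defect groups of order `16` with an inertial automorphism of order `7`. -/

set_option autoImplicit false
set_option linter.unusedSectionVars false

namespace CfsgLib.H16

open Cfsg MonoidAlgebra CfsgLib.Char CfsgLib.Block CfsgLib.Blk CfsgLib.Star CfsgLib.Tame Subgroup
open CfsgLib.BrPair (Cz Nz MaxPair stN)
open CfsgLib.KB CfsgLib.KB.Au

universe u

section abs

variable {A : Type*} [CommGroup A] [Finite A]

theorem sv_mod {s : MulAut A} (h7 : orderOf s = 7) (S : Set A) (hS : ∀ a ∈ S, s a ∈ S) :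
    Nat.card S ≡ Nat.card (S ∩ Fix s : Set A) [MOD 7] := by
  classical
  have := Fact.mk (by norm_num : Nat.Prime 7)
  have := Fintype.ofFinite S
  let f : Function.End S := fun a => ⟨s a, hS a a.2⟩
  have hf : ∀ n a, ((f ^ n) a : A) = (s ^ n) a := fun n => by
    induction n with
    | zero => intro a; rfl
    | succ n ih => intro a; rw [pow_succ, pow_succ]; exact ih (f a)
  have := Equiv.Perm.card_fixedPoints_modEq (f := f) (p := 7) (n := 1) (funext fun a =>
    Subtype.ext (by rw [hf, pow_one, ← h7, pow_orderOf_eq_one]; rfl))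
  rw [← Nat.card_eq_fintype_card, ← Nat.card_eq_fintype_card] at this
  refine this.trans (congrArg (· % 7) (Nat.card_congr ⟨fun a => ⟨a.1.1, a.1.2, congrArg Subtype.val a.2⟩,
    fun a => ⟨⟨a.1, a.2.1⟩, Subtype.ext a.2.2⟩, fun _ => rfl, fun _ => rfl⟩))

theorem sv_abs (h16 : Nat.card A = 16) {X : Subgroup (MulAut A)} (ho : Odd (Nat.card X))
    {s : MulAut A} (hs : s ∈ X) (h7 : orderOf s = 7) :
    ∃ u : A, orderOf u = 2 ∧ (∀ t ∈ X, t u = u) ∧ ∀ x : A, x ^ 2 = 1 := by
  have := Fact.mk (by norm_num : Nat.Prime 7)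
  have := Fact.mk Nat.prime_five
  have := Fact.mk Nat.prime_two
  have dv : ∀ H : Subgroup A, Nat.card H ∈ Nat.divisors 16 := fun H =>
    Nat.mem_divisors.2 ⟨h16 ▸ card_subgroup_dvd_card H, by norm_num⟩
  have top : ∀ H : Subgroup A, Nat.card H = 16 → H = ⊤ := fun H h => (card_eq_iff_eq_top H).1 (h.trans h16.symm)
  have F2 : Nat.card (Fix s) = 2 := by
    have h1 := card_modEq h7
    rw [h16] at h1
    refine ((by decide : ∀ n ∈ Nat.divisors 16, 16 ≡ n [MOD 7] → n = 2 ∨ n = 16) _ (dv _)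
      h1).resolve_right fun e => ?_
    rw [Fix_eq_top (top _ e)] at h7
    simp at h7
  obtain ⟨u, hu⟩ := exists_prime_orderOf_dvd_card' (G := Fix s) 2 (by rw [F2])
  rw [← orderOf_coe] at hu
  have u1 : (u : A) ≠ 1 := fun e => by simp [e] at hu
  have Fu : Fix s = zpowers (u : A) :=
    (eq_of_le_of_card_ge (zpowers_le.2 u.2) (by rw [F2, Nat.card_zpowers, hu])).symm
  have u2 : (u : A) ^ 2 = 1 := by rw [← hu, pow_orderOf_eq_one]
  have cs : ∀ a ∈ Fix s, a = 1 ∨ a = u := fun a ha => by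
    obtain ⟨k, rfl⟩ := (mem_powers_iff_mem_zpowers).2 (Fu.le ha)
    rcases Nat.even_or_odd' k with ⟨i, rfl | rfl⟩
    · exact .inl (by show _ ^ _ = _; rw [pow_mul, u2, one_pow])
    · exact .inr (by show _ ^ _ = _; rw [pow_succ, pow_mul, u2, one_pow, one_mul])
  refine ⟨u, hu, fun t ht => ?_, fun x => ?_⟩
  · have c1 : Nat.card X ∣ 9765 := by
      obtain ⟨r, hr⟩ := (IsPGroup.of_card (p := 2) (n := 4) h16).index (frattini A)
      have hm := (card_subgroup_dvd_card X).trans (Fgs.card_mulAut_dvd (p := 2) (n := 4) h16 hr)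
      have : r ≤ 4 := (Nat.pow_le_pow_iff_right (by norm_num : 1 < 2)).1
        (hr ▸ Nat.le_of_dvd (by norm_num) ((index_dvd_card _).trans h16.dvd))
      have e : ∏ i ∈ Finset.range r, (2 ^ r - 2 ^ i) ∣ 2 ^ 10 * 9765 := by
        interval_cases r <;> simp [Finset.prod_range_succ]
      refine (ho.coprime_two_right.pow_right (r * (4 - r) + 10)).dvd_of_dvd_mul_left
        (hm.trans ?_)
      rw [pow_add, mul_assoc]
      exact mul_dvd_mul_left _ e
    have c2 : ¬ 5 ∣ Nat.card X := fun h5 => by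
      have := Cfsg.Agent.S0205.result ho
      obtain ⟨y, y5, hy⟩ := G7P.comm5 c1 h5 (x := ⟨s, hs⟩) (by rw [← orderOf_coe]; exact h7)
      rw [← orderOf_coe] at y5
      have e : s (y.1 u) = y.1 u := by
        have := congrArg (fun z : X => z.1 u) hy
        simpa [mem_Fix.1 u.2] using this
      have e' : (u : A) ∈ Fix y.1 := (cs _ e).resolve_left (by simpa using u1)
      have h1 := card_modEq y5
      rw [h16] at h1
      rcases (by decide : ∀ n ∈ Nat.divisors 16, 16 ≡ n [MOD 5] → n = 1 ∨ n = 16) _ (dv _) h1 with k | k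
      · exact u1 (mem_bot.1 (card_eq_one.1 k ▸ e'))
      · rw [Fix_eq_top (top _ k)] at y5
        simp at y5
    have o1 : (1 : A) ∉ MulAction.orbit X (u : A) := by
      rintro ⟨t, ht⟩
      exact u1 (t.1.injective ((show t.1 u = 1 from ht).trans (map_one _).symm))
    have m := sv_mod h7 (MulAction.orbit X (u : A)) (by
      rintro _ ⟨t, rfl⟩; exact ⟨⟨s, hs⟩ * t, rfl⟩)
    have e : (MulAction.orbit X (u : A) ∩ Fix s : Set A) = {(u : A)} := by
      ext a
      exact ⟨fun h => (cs a h.2).resolve_left fun k => o1 (k ▸ h.1),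
        fun h => by rw [show a = u from h]; exact ⟨MulAction.mem_orbit_self _, u.2⟩⟩
    have d : Nat.card (MulAction.orbit X (u : A)) ∣ Nat.card X := by
      rw [Nat.card_coe_set_eq, ← MulAction.index_stabilizer]; exact index_dvd_card _
    have l : Nat.card (MulAction.orbit X (u : A)) ≤ 16 := h16 ▸ Nat.card_le_card_of_injective _
      Subtype.val_injective
    rw [e, Nat.card_unique (α := ({(u : A)} : Set A))] at m
    have : Nat.card (MulAction.orbit X (u : A)) = 1 := by
      have d1 := ho.of_dvd_nat d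
      have d2 : ¬ 5 ∣ Nat.card (MulAction.orbit X (u : A)) := fun k => c2 (k.trans d)
      generalize Nat.card (MulAction.orbit X (u : A)) = n at *
      rw [Nat.odd_iff] at d1
      unfold Nat.ModEq at m
      omega
    exact congrArg Subtype.val ((Nat.card_eq_one_iff_unique.1 this).1.elim
      (⟨t u, ⟨t, ht⟩, rfl⟩ : MulAction.orbit X (u : A)) ⟨u, MulAction.mem_orbit_self _⟩)
  · let f : A →* A := MonoidHom.mk' (fun a => a⁻¹ * s a) fun a b => by
      rw [map_mul, mul_inv, mul_mul_mul_comm]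
    have fk : f.ker = Fix s := Subgroup.ext fun a => by
      rw [MonoidHom.mem_ker, mem_Fix]; exact inv_mul_eq_one.trans eq_comm
    have V8 : Nat.card f.range = 8 := by
      have := card_mul_index f.ker
      rw [index_ker, fk, F2, h16] at this
      omega
    obtain ⟨⟨_, y, rfl⟩, hv⟩ := exists_prime_orderOf_dvd_card' (G := f.range) 2 (by rw [V8]; norm_num)
    rw [← orderOf_coe] at hv
    have v2 : f y ^ 2 = 1 := by rw [← hv, pow_orderOf_eq_one]
    have vF : f y ∉ Fix s := fun h => by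
      have := fix_of_mul (p := 2) (n := 1) (y := y) (by rw [h7]; norm_num) v2 h
        (mul_inv_cancel_left _ _).symm
      have e : f y = 1 := fk.ge this
      simp [e] at hv
    let O := (powMonoidHom 2 : A →* A).ker
    have FO : Fix s ≤ O := by rw [Fu, zpowers_le]; exact u2
    have m := sv_mod h7 O fun a ha => by
      show s a ^ 2 = 1
      rw [← map_pow, show a ^ 2 = 1 from ha, map_one]
    rw [Set.inter_eq_right.2 FO] at m
    have m' : Nat.card O ≡ 2 [MOD 7] := F2 ▸ m
    rcases (by decide : ∀ n ∈ Nat.divisors 16, n ≡ 2 [MOD 7] → n = 2 ∨ n = 16) _ (dv O) m' with k | k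
    · exact (vF (eq_of_le_of_card_ge FO (by rw [k, F2]) ▸ v2)).elim
    · exact (top _ k).ge (mem_top x)

end abs

theorem ht_seven [Fact (Nat.Prime 2)] {M : Ideal AlgInt} (hM : IsPModular 2 M)
    (core : ∀ (H : Type u) [Group H] [Finite H] (B : Set (IrrCharacter H)), IsPBlock M B →
      ∀ D : Subgroup H, IsDefectGroup 2 M B D → Nat.card D = 8 → (∀ x ∈ D, x ^ 2 = 1) →
        8 ≤ Nat.card B)
    {G : Type u} [Group G] [Finite G] {B : Set (IrrCharacter G)} (hB : IsPBlock M B)
    {P : Subgroup G} {e : (K hM)[G]} (h : MaxPair 2 ⊤ ⊤ (eB hM B) P e) (hab : P ≤ Cz P)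
    (h16 : Nat.card P = 16) {t : G} (ht : t ∈ stN ⊤ P e) (t7 : t ^ 7 ∈ Cz P) (t0 : t ∉ Cz P) :
    ∀ χ ∈ B, blockHeight 2 B (χ : G → ℂ) = 0 := by
  have := Fact.mk (by norm_num : Nat.Prime 7)
  have hT : stN ⊤ P e ≤ Nz P := inf_le_left.trans inf_le_right
  have := isMulComm hab
  have ho : Odd (Nat.card (Au.cj hT).range) := by
    rw [card_range_cj]; exact Nat.odd_iff.2 (Nat.two_dvd_ne_zero.1 (ab_not_dvd_relIndex h hab))
  open IsMulCommutative in
  obtain ⟨u, h1, h2, h3⟩ := sv_abs h16 ho (s := Au.cj hT ⟨t, ht⟩) ⟨_, rfl⟩ (orderOf_eq_prime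
    (by rw [← map_pow, cj_eq_one]; exact t7) (mt (cj_eq_one hT).1 t0))
  refine (KKL.red_fix hM core hB h hab (m := 0) h16 u (by rw [orderOf_coe, h1]; rfl)
    (fun g hg => ?_) fun x hx => ?_).2.1
  · exact Pg.conj_eq_iff.1 (congrArg Subtype.val (h2 _ ⟨⟨g, hg⟩, rfl⟩))
  · rw [show x ^ 2 = 1 from congrArg Subtype.val (h3 ⟨x, hx⟩)]; exact one_mem _

end CfsgLib.H16
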