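import Cfsg.Agent.Lib.H16.NonAb
import Cfsg.Agent.Lib.H16.Frob
import Cfsg.Agent.Lib.H16.RegC
import Cfsg.Agent.Lib.H16.Seven
import Cfsg.Agent.Lib.H16.E9

/-! Heights in `2`-blocks of defect `4`. -/

set_option autoImplicit false

namespace CfsgLib.H16

open Cfsg MonoidAlgebra CfsgLib.Char CfsgLib.Block CfsgLib.Blk CfsgLib.Star CfsgLib.Tame Subgroup
open CfsgLib.BrPair (Cz Nz MaxPair stN)
open CfsgLib.KB

universe u

theorem ht_ab {M : Ideal AlgInt} (hM : IsPModular 2 M)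
    (core : ∀ (H : Type u) [Group H] [Finite H] (B : Set (IrrCharacter H)), IsPBlock M B →
      ∀ D : Subgroup H, IsDefectGroup 2 M B D → Nat.card D = 8 → (∀ x ∈ D, x ^ 2 = 1) →
        8 ≤ Nat.card B)
    {G : Type u} [Group G] [Finite G] {B : Set (IrrCharacter G)} (hB : IsPBlock M B)
    {D : Subgroup G} (hD : IsDefectGroup 2 M B D) (h16 : Nat.card D = 16) (hab : D ≤ Cz D) :
    ∀ χ ∈ B, blockHeight 2 B (χ : G → ℂ) = 0 := by
  have := Fact.mk Nat.prime_two
  have := Fintype.ofFinite G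
  have := fun u : G => Fintype.ofFinite (Cu u)
  obtain ⟨e, h⟩ := BrPair.exists_maxPair_of_isDef le_rfl BrPair.top_le_Nz_top
    (BrPair.isBlk_eB hM hB) ((BrPair.isDefectGroup_iff hM hB).1 hD)
  by_cases h7 : ∀ t ∈ stN ⊤ D e, t ^ 7 ∈ Cz D → t ∈ Cz D
  · rcases ab16 h.pgroup hab h16.le (Cz_le_stN h) (inf_le_left.trans inf_le_right)
      (ab_not_dvd_relIndex h hab) h7 with h1 | ⟨V, h1, h2⟩ | ⟨V, W, h1⟩
    · exact frob ⟨h, hB, hab, h1⟩ h16
    · exact ht_reg h hB hab h1 h2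
    · exact ht_e9 h hB hab h1
  · simp only [not_forall] at h7
    obtain ⟨t, h1, h2, h3⟩ := h7
    exact ht_seven hM core hB h hab h16 h1 h2 h3

theorem main {M : Ideal AlgInt} (hM : IsPModular 2 M)
    (core : ∀ (H : Type u) [Group H] [Finite H] (B : Set (IrrCharacter H)), IsPBlock M B →
      ∀ D : Subgroup H, IsDefectGroup 2 M B D → Nat.card D = 8 → (∀ x ∈ D, x ^ 2 = 1) →
        8 ≤ Nat.card B)
    {G : Type u} [Group G] [Finite G] {B : Set (IrrCharacter G)} (hB : IsPBlock M B)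
    {D : Subgroup G} (hD : IsDefectGroup 2 M B D) (h16 : Nat.card D = 16)
    {χ : IrrCharacter G} (hχ : χ ∈ B) :
    blockHeight 2 B (χ : G → ℂ) ≤ ((center D).index).factorization 2 ∧
      (blockHeight 2 B (χ : G → ℂ) = ((center D).index).factorization 2 ↔ IsMulCommutative D) := by
  by_cases hc : IsMulCommutative D
  · have h0 := ht_ab hM core hB hD h16 (fun x hx y hy =>
      congrArg Subtype.val (hc.is_comm.comm (⟨y, hy⟩ : D) ⟨x, hx⟩)) χ hχ
    have h1 : center D = ⊤ := eq_top_iff.2 fun x _ => mem_center_iff.2 fun y => hc.is_comm.comm y x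
    simp [h0, h1, hc]
  · have := nonab hM hB hD h16 hc hχ
    exact ⟨this.le, iff_of_false this.ne hc⟩

end CfsgLib.H16
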