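import Mathlib

/-! Arithmetic of the case `D = 2^4`, inertial quotient `3 × 3`. -/

set_option autoImplicit false

namespace CfsgLib.H16

open Finset

theorem nine_half {ι : Type*} [Fintype ι] (A : ι → ι → ℤ) (d s : ι → ℤ)
    (sA : ∀ i j, A i j = A j i) (hA : ∀ i j, ∑ k, A i k * A k j = 4 * A i j)
    (hAd : ∀ i, ∑ k, A i k * d k = 4 * d i) (hs : ∀ j, Odd (s j + d j)) :
    ∃ a : ι → ℤ, (∀ i, ∑ k, A i k * s k = 2 * a i) ∧
      ∑ i, (s i - a i) ^ 2 = ∑ i, s i ^ 2 ∧ ∑ i, (s i - a i) * d i = - ∑ i, s i * d i := by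
  have hev : ∀ i, ∃ c, ∑ k, A i k * s k = 2 * c := by
    intro i
    have h1 : (2 : ℤ) ∣ ∑ k, (A i k * s k + A i k * d k - A i k * A k i) := by
      refine Finset.dvd_sum fun k _ => ?_
      obtain ⟨c, hc⟩ := hs k
      have h2 : (2 : ℤ) ∣ A i k * (A i k - 1) := (Int.even_mul_pred_self _).two_dvd
      obtain ⟨e, he⟩ := h2
      refine ⟨A i k * c - e, ?_⟩
      rw [← sA i k]
      linear_combination (A i k) * hc - he
    rw [Finset.sum_sub_distrib, Finset.sum_add_distrib, hAd, hA] at h1
    obtain ⟨c, hc⟩ := h1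
    exact ⟨c - 2 * d i + 2 * A i i, by linear_combination hc⟩
  choose a ha using hev
  refine ⟨a, ha, ?_, ?_⟩
  · have h1 : ∑ i, (2 * a i) * (2 * a i) = 4 * ∑ i, s i * (2 * a i) := by
      simp only [← ha]
      calc ∑ i, (∑ k, A i k * s k) * ∑ k, A i k * s k
          = ∑ i, ∑ k, ∑ l, s k * (A k i * A i l) * s l := by
            refine Finset.sum_congr rfl fun i _ => ?_
            rw [Finset.sum_mul_sum]
            refine Finset.sum_congr rfl fun k _ => Finset.sum_congr rfl fun l _ => ?_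
            rw [sA k i]; ring
        _ = ∑ k, ∑ l, s k * (∑ i, A k i * A i l) * s l := by
            rw [Finset.sum_comm]
            refine Finset.sum_congr rfl fun k _ => ?_
            rw [Finset.sum_comm]
            refine Finset.sum_congr rfl fun l _ => ?_
            rw [Finset.mul_sum, Finset.sum_mul]
        _ = 4 * ∑ i, s i * ∑ k, A i k * s k := by
            rw [Finset.mul_sum]
            refine Finset.sum_congr rfl fun k _ => ?_
            rw [Finset.mul_sum, Finset.mul_sum]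
            refine Finset.sum_congr rfl fun l _ => ?_
            rw [hA]; ring
    have h2 : ∑ i, (s i - a i) ^ 2 * 4 =
        ∑ i, s i ^ 2 * 4 - 4 * ∑ i, s i * (2 * a i) + ∑ i, (2 * a i) * (2 * a i) := by
      rw [Finset.mul_sum, ← Finset.sum_sub_distrib, ← Finset.sum_add_distrib]
      exact Finset.sum_congr rfl fun i _ => by ring
    rw [← Finset.sum_mul, ← Finset.sum_mul] at h2
    linarith
  · have h1 : ∑ i, (2 * a i) * d i = 4 * ∑ i, s i * d i := by
      simp only [← ha]
      calc ∑ i, (∑ k, A i k * s k) * d i = ∑ i, ∑ k, s k * (A k i * d i) := by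
            refine Finset.sum_congr rfl fun i _ => ?_
            rw [Finset.sum_mul]
            refine Finset.sum_congr rfl fun k _ => ?_
            rw [sA k i]; ring
        _ = 4 * ∑ i, s i * d i := by
            rw [Finset.sum_comm, Finset.mul_sum]
            refine Finset.sum_congr rfl fun k _ => ?_
            rw [← Finset.mul_sum, hAd]; ring
    have h2 : ∑ i, (s i - a i) * d i * 2 = ∑ i, s i * d i * 2 - ∑ i, (2 * a i) * d i := by
      rw [← Finset.sum_sub_distrib]
      exact Finset.sum_congr rfl fun i _ => by ring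
    rw [← Finset.sum_mul, ← Finset.sum_mul] at h2
    linarith

theorem nine_rigid {ι : Type*} [Fintype ι] (d s y : ι → ℤ) (hb : ∀ i, d i ^ 2 ≤ 4)
    (hs : ∀ i, (d i = 2 * s i ∧ s i ^ 2 = 1) ∨ (s i = 0 ∧ Odd (d i)))
    (h1 : ∑ i, y i ^ 2 = ∑ i, s i ^ 2) (h2 : ∑ i, y i * d i = -(2 * ∑ i, s i ^ 2)) :
    ∀ i, y i = - s i := by
  have hnn : ∀ i, 0 ≤ y i * (2 * y i + d i) := by
    intro i
    have := hb i
    have h3 : -2 ≤ d i ∧ d i ≤ 2 := by constructor <;> nlinarith
    rcases lt_trichotomy (y i) 0 with h | h | h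
    · exact mul_nonneg_of_nonpos_of_nonpos h.le (by omega)
    · simp [h]
    · exact mul_nonneg h.le (by omega)
  have hsum : ∑ i, y i * (2 * y i + d i) = 0 := by
    have : ∑ i, y i * (2 * y i + d i) = 2 * ∑ i, y i ^ 2 + ∑ i, y i * d i := by
      rw [Finset.mul_sum, ← Finset.sum_add_distrib]
      exact Finset.sum_congr rfl fun i _ => by ring
    rw [this, h1, h2]; ring
  have hz := (Finset.sum_eq_zero_iff_of_nonneg fun i _ => hnn i).1 hsum
  have hc : ∀ i, y i = 0 ∨ y i = - s i := by
    intro i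
    rcases mul_eq_zero.1 (hz i (Finset.mem_univ _)) with h | h
    · exact Or.inl h
    · rcases hs i with ⟨h4, -⟩ | ⟨-, c, hc⟩
      · right; omega
      · omega
  have hle : ∀ i, 0 ≤ s i ^ 2 - y i ^ 2 := by
    intro i
    rcases hc i with h | h <;> rw [h] <;> nlinarith [sq_nonneg (s i)]
  have hsum2 : ∑ i, (s i ^ 2 - y i ^ 2) = 0 := by rw [Finset.sum_sub_distrib, h1, sub_self]
  have hz2 := (Finset.sum_eq_zero_iff_of_nonneg fun i _ => hle i).1 hsum2
  intro i
  rcases hc i with h | h
  · have h5 := hz2 i (Finset.mem_univ _)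
    rw [h] at h5 ⊢
    have : s i = 0 := by simpa using h5
    rw [this, neg_zero]
  · exact h

/-- the same statement with functions instead of matrices -/
theorem nine' {ι : Type*} [Fintype ι] (A B : ι → ι → ℤ) (d : ι → ℤ)
    (sA : ∀ i j, A i j = A j i) (sB : ∀ i j, B i j = B j i)
    (hA : ∀ i j, ∑ k, A i k * A k j = 4 * A i j) (hB : ∀ i j, ∑ k, B i k * B k j = 4 * B i j)
    (hAB : ∀ i j, ∑ k, A i k * B k j = d i * d j) (hd : ∑ i, d i ^ 2 = 16)
    (h0 : ∀ i, d i ≠ 0) (ho : ∃ i, Odd (d i)) (hu : ∀ i, d i ^ 2 < 4 * A i i)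
    (hv : ∀ i, d i ^ 2 < 4 * B i i) (h1 : ∀ i, 4 * A i i + 4 * B i i < 16 + d i ^ 2) :
    ∀ i, Odd (d i) := by
  classical
  obtain ⟨o, ho⟩ := ho
  have hAd : ∀ i, ∑ k, A i k * d k = 4 * d i := by
    intro i
    refine mul_right_cancel₀ (h0 o) ?_
    calc (∑ k, A i k * d k) * d o = ∑ k, ∑ l, A i k * A k l * B l o := by
          rw [Finset.sum_mul]
          refine Finset.sum_congr rfl fun k _ => ?_
          rw [mul_assoc, ← hAB, Finset.mul_sum]
          exact Finset.sum_congr rfl fun l _ => by ring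
      _ = 4 * d i * d o := by
          rw [Finset.sum_comm, mul_assoc, ← hAB, Finset.mul_sum]
          refine Finset.sum_congr rfl fun l _ => ?_
          rw [← Finset.sum_mul, hA]; ring
  have hBd : ∀ i, ∑ k, B i k * d k = 4 * d i := by
    intro i
    refine mul_left_cancel₀ (h0 o) ?_
    calc d o * ∑ k, B i k * d k = ∑ k, ∑ l, A o l * (B l k * B k i) := by
          rw [Finset.mul_sum]
          refine Finset.sum_congr rfl fun k _ => ?_
          rw [mul_left_comm, ← hAB, Finset.mul_sum]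
          exact Finset.sum_congr rfl fun l _ => by rw [sB i k]; ring
      _ = d o * (4 * d i) := by
          rw [Finset.sum_comm, mul_left_comm, ← hAB, Finset.mul_sum]
          refine Finset.sum_congr rfl fun l _ => ?_
          rw [← Finset.mul_sum, hB]; ring
  have hpair : ∀ i j, i ≠ j → d i ^ 2 + d j ^ 2 ≤ 16 := by
    intro i j hij
    rw [← hd, ← Finset.sum_pair (f := fun i => d i ^ 2) hij]
    exact Finset.sum_le_sum_of_subset_of_nonneg (Finset.subset_univ _) fun _ _ _ => sq_nonneg _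
  have ho1 : 1 ≤ d o ^ 2 := by
    have h : 0 < d o ^ 2 := lt_of_le_of_ne (sq_nonneg _) (pow_ne_zero 2 (h0 o)).symm
    omega
  let s : ι → ℤ := fun j => if Odd (d j) then 0 else d j / 2
  have hs : ∀ i, (d i = 2 * s i ∧ s i ^ 2 = 1) ∨ (s i = 0 ∧ Odd (d i)) := by
    intro i
    by_cases h : Odd (d i)
    · exact Or.inr ⟨if_pos h, h⟩
    · left
      have hio : i ≠ o := fun e => h (e ▸ ho)
      have h2 := hpair i o hio
      have h3 : s i = d i / 2 := if_neg h
      obtain ⟨c, hc⟩ := Int.not_odd_iff_even.1 h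
      have h4 : s i = c := by omega
      have h5 : c ≠ 0 := fun e => h0 i (by omega)
      have h6 : -2 < c ∧ c < 2 := by rw [hc] at h2; constructor <;> nlinarith
      refine ⟨by omega, ?_⟩
      rw [h4]
      have : c = 1 ∨ c = -1 := by omega
      rcases this with e | e <;> rw [e] <;> norm_num
  have hodd : ∀ j, Odd (s j + d j) := by
    intro j
    rcases hs j with ⟨h2, h3⟩ | ⟨h2, h3⟩
    · have : s j = 1 ∨ s j = -1 := by
        have : (s j - 1) * (s j + 1) = 0 := by linear_combination h3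
        rcases mul_eq_zero.1 this with h | h <;> omega
      rw [h2]
      rcases this with e | e <;> rw [e] <;> decide
    · rw [h2, zero_add]; exact h3
  have hsd : ∑ i, s i * d i = 2 * ∑ i, s i ^ 2 := by
    rw [Finset.mul_sum]
    refine Finset.sum_congr rfl fun i _ => ?_
    rcases hs i with ⟨h2, -⟩ | ⟨h2, -⟩
    · rw [h2]; ring
    · rw [h2]; ring
  obtain ⟨a, ha, ha1, ha2⟩ := nine_half A d s sA hA hAd hodd
  obtain ⟨b, hb, hb1, hb2⟩ := nine_half B d s sB hB hBd hodd
  rw [hsd] at ha2 hb2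
  have hab : ∑ i, (2 * a i) * (2 * b i) = (2 * ∑ i, s i ^ 2) * (2 * ∑ i, s i ^ 2) := by
    rw [← hsd]
    simp only [← ha, ← hb]
    calc ∑ i, (∑ k, A i k * s k) * ∑ k, B i k * s k
        = ∑ i, ∑ k, ∑ l, s k * (A k i * B i l) * s l := by
          refine Finset.sum_congr rfl fun i _ => ?_
          rw [Finset.sum_mul_sum]
          refine Finset.sum_congr rfl fun k _ => Finset.sum_congr rfl fun l _ => ?_
          rw [sA k i]; ring
      _ = ∑ k, ∑ l, s k * (∑ i, A k i * B i l) * s l := by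
          rw [Finset.sum_comm]
          refine Finset.sum_congr rfl fun k _ => ?_
          rw [Finset.sum_comm]
          refine Finset.sum_congr rfl fun l _ => ?_
          rw [Finset.mul_sum, Finset.sum_mul]
      _ = (∑ i, s i * d i) * ∑ i, s i * d i := by
          rw [Finset.sum_mul_sum]
          refine Finset.sum_congr rfl fun k _ => Finset.sum_congr rfl fun l _ => ?_
          rw [hAB]; ring
  intro ψ
  by_contra hψ
  have hψ2 : d ψ = 2 * s ψ ∧ s ψ ^ 2 = 1 := (hs ψ).resolve_right fun h => hψ h.2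
  have hψ4 : d ψ ^ 2 = 4 := by rw [hψ2.1]; linear_combination 4 * hψ2.2
  by_cases hbd : ∀ i, d i ^ 2 ≤ 4
  · have e1 := nine_rigid d s _ hbd hs ha1 ha2
    have e2 := nine_rigid d s _ hbd hs hb1 hb2
    have h3 : ∑ i, (2 * a i) * (2 * b i) = 16 * ∑ i, s i ^ 2 := by
      rw [Finset.mul_sum]
      refine Finset.sum_congr rfl fun i _ => ?_
      have h4 : a i = 2 * s i := by have := e1 i; omega
      have h5 : b i = 2 * s i := by have := e2 i; omega
      rw [h4, h5]; ring
    have h6 : 1 ≤ ∑ i, s i ^ 2 := by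
      rw [← hψ2.2]
      exact Finset.single_le_sum (f := fun i => s i ^ 2) (fun _ _ => sq_nonneg _)
        (Finset.mem_univ ψ)
    have h7 : 0 < ∑ i, (d i ^ 2 - 4 * s i ^ 2) := by
      refine Finset.sum_pos' (fun i _ => ?_) ⟨o, Finset.mem_univ _, ?_⟩
      · rcases hs i with ⟨h2, -⟩ | ⟨h2, -⟩
        · rw [h2]; ring_nf; exact le_rfl
        · rw [h2]; simpa using sq_nonneg (d i)
      · have : s o = 0 := if_pos ho
        rw [this]; linarith
    rw [Finset.sum_sub_distrib, ← Finset.mul_sum, hd] at h7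
    rw [h3] at hab
    nlinarith
  · push Not at hbd
    obtain ⟨j, hj⟩ := hbd
    have hjo : s j = 0 ∧ Odd (d j) := by
      refine (hs j).resolve_left fun h => ?_
      rw [h.1] at hj; nlinarith [h.2]
    have hj9 : 9 ≤ d j ^ 2 := by
      by_contra hlt
      have h2 : -3 < d j ∧ d j < 3 := by constructor <;> nlinarith
      have h3 : -2 ≤ d j ∧ d j ≤ 2 := by omega
      nlinarith [h3.1, h3.2]
    have hjψ : j ≠ ψ := fun e => hψ (e ▸ hjo.2)
    have hs0 : ∀ i, i ≠ ψ → s i = 0 ∧ Odd (d i) := by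
      intro i hi
      refine (hs i).resolve_left fun h => ?_
      have hij : i ≠ j := fun e => by
        have h2 := hjo.1
        rw [← e] at h2
        rw [h2] at h
        simp at h
      have h4 : d i ^ 2 = 4 := by rw [h.1]; linear_combination 4 * h.2
      have h5 : ∑ x ∈ ({i, j, ψ} : Finset ι), d x ^ 2 ≤ 16 := by
        rw [← hd]
        exact Finset.sum_le_sum_of_subset_of_nonneg (Finset.subset_univ _)
          fun _ _ _ => sq_nonneg _
      rw [Finset.sum_insert (by simp [hij, hi]), Finset.sum_pair hjψ] at h5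
      linarith
    have hA2 : A ψ ψ = 2 := by
      have := hu ψ; have := hv ψ; have := h1 ψ; omega
    have haψ : a ψ = s ψ := by
      have h2 := ha ψ
      rw [Finset.sum_eq_single ψ (fun k _ hk => by rw [(hs0 k hk).1, mul_zero])
        (fun h => absurd (Finset.mem_univ _) h), hA2] at h2
      omega
    have he : ∑ i, s i ^ 2 = 1 := by
      rw [Finset.sum_eq_single ψ (fun k _ hk => by rw [(hs0 k hk).1]; norm_num)
        (fun h => absurd (Finset.mem_univ _) h), hψ2.2]
    have hpar : (2 : ℤ) ∣ ∑ i, ((s i - a i) ^ 2 - (s i - a i) * d i) := by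
      refine Finset.dvd_sum fun i _ => ?_
      by_cases hi : i = ψ
      · rw [hi, haψ]; simp
      · obtain ⟨c, hc⟩ := (hs0 i hi).2
        obtain ⟨e, he⟩ : (2 : ℤ) ∣ (s i - a i) * ((s i - a i) - 1) :=
          (Int.even_mul_pred_self _).two_dvd
        exact ⟨e - (s i - a i) * c, by rw [hc]; linear_combination he⟩
    rw [Finset.sum_sub_distrib, ha1, ha2, he] at hpar
    omega

theorem nine {ι : Type*} [Fintype ι] [DecidableEq ι] (A B : Matrix ι ι ℤ) (d : ι → ℤ)
    (sA : A.IsSymm) (sB : B.IsSymm) (hA : A * A = (4 : ℤ) • A) (hB : B * B = (4 : ℤ) • B)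
    (hAB : A * B = Matrix.vecMulVec d d) (hd : ∑ i, d i ^ 2 = 16)
    (h0 : ∀ i, d i ≠ 0) (ho : ∃ i, Odd (d i)) (hu : ∀ i, d i ^ 2 < 4 * A i i)
    (hv : ∀ i, d i ^ 2 < 4 * B i i) (h1 : ∀ i, 4 * A i i + 4 * B i i < 16 + d i ^ 2) :
    ∀ i, Odd (d i) :=
  nine' A B d (fun i j => sA.apply j i) (fun i j => sB.apply j i)
    (fun i j => by simpa [Matrix.mul_apply] using congrFun (congrFun hA i) j)
    (fun i j => by simpa [Matrix.mul_apply] using congrFun (congrFun hB i) j)
    (fun i j => by
      simpa [Matrix.mul_apply, Matrix.vecMulVec_apply] using congrFun (congrFun hAB i) j)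
    hd h0 ho hu hv h1

end CfsgLib.H16
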