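import Mathlib
import Cfsg.Agent.Lib.KB.G16
import Cfsg.Agent.Lib.KB.Count
import Cfsg.Agent.Lib.Cover.HtBound
import Cfsg.Agent.Lib.Star.Gdn
import Cfsg.Agent.Lib.Blk.Two

/-! 2-blocks with a nonabelian defect group of order 16: heights. -/

set_option autoImplicit false
set_option linter.unusedSectionVars false

namespace CfsgLib.H16

attribute [local implicit_reducible] CfsgLib.Block.K

open Cfsg MonoidAlgebra CfsgLib.Char CfsgLib.Block CfsgLib.Blk CfsgLib.Star Finset Subgroup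
open CfsgLib.BrPair (cS Cz Nz Ce br IsBlk sB cB MaxPair stN stC mem_Cz mem_Nz)

variable {G : Type*} [Group G] [Fintype G] [∀ u : G, Fintype (Cu u)]
  {M : Ideal AlgInt} {hM : IsPModular 2 M} {B : Set (IrrCharacter G)} {P : Subgroup G}
  {e : (K hM)[G]}

/-- contributions of pairwise non-fused elements add up to at most one -/
theorem na_sum_le (h : MaxPair 2 ⊤ ⊤ (eB hM B) P e) (hB : IsPBlock M B) {χ : IrrCharacter G}
    (hχ : χ ∈ B) {S : Finset G} (hS : ∀ u ∈ S, u ∈ P)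
    (hn : ∀ u ∈ S, ∀ v ∈ S, Fus 2 P e u v → u = v) :
    ∑ u ∈ S, (mu 2 u (bu hM P e u) χ χ).re ≤ 1 := by
  classical
  obtain ⟨R, hR, -⟩ := exists_isFReps h
  obtain ⟨ρ, h1, h2⟩ := KB.exists_rep h hR
  have hc := irr_isClassFunction χ
  have key := congrArg Complex.re (sum_mu_reps h hB hR hc hc)
  rw [classInner_blockPart_of_mem _ hχ, classInner_irr_self χ.2, Complex.re_sum,
    Complex.one_re] at key
  have e1 : ∑ u ∈ S, (mu 2 u (bu hM P e u) χ χ).re =
      ∑ v ∈ S.image ρ, (mu 2 v (bu hM P e v) χ χ).re := by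
    rw [Finset.sum_image fun u hu v hv huv => hn u hu v hv (h2 u (hS u hu) v (hS v hv) huv)]
    exact Finset.sum_congr rfl fun u hu => by rw [mu_bu_of_fus h (h1 u (hS u hu)).2 hc hc]
  rw [e1, ← key]
  refine Finset.sum_le_sum_of_subset_of_nonneg (fun v hv => ?_) fun v _ _ =>
    classInner_self_re_nonneg _
  obtain ⟨u, hu, rfl⟩ := Finset.mem_image.1 hv
  exact (h1 u (hS u hu)).1

/-- contributions of major subsections are positive -/
theorem na_pos (h : MaxPair 2 ⊤ ⊤ (eB hM B) P e) (hB : IsPBlock M B) {χ : IrrCharacter G}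
    (hχ : χ ∈ B) {z : G} (hz : z ∈ P) (hc : P ≤ Cu z) : 0 < (mu 2 z (bu hM P e z) χ χ).re := by
  refine lt_of_le_of_ne (classInner_self_re_nonneg _) fun h0 => ?_
  refine sp_ne_zero_of_major hM (pElt_of_mem h hz) (induced_bu h hB hz)
    (defect_bu_of_central h hB hz hc) hχ (classInner_self_eq_zero.1 ?_)
  exact Complex.ext h0.symm (classInner_self_im _)

/-- rational major subsections contribute at least `2^(h+1-d)` to a character of height `h > 0` -/
theorem na_rat (h : MaxPair 2 ⊤ ⊤ (eB hM B) P e) (hB : IsPBlock M B) {χ : IrrCharacter G}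
    (hχ : χ ∈ B) (h0 : blockHeight 2 B (χ : G → ℂ) ≠ 0) {z : G} (hz : z ∈ P) (hc : P ≤ Cu z)
    (h2 : z * z = 1) : (2 : ℝ) ^ (blockHeight 2 B (χ : G → ℂ) + 1) ≤
      2 ^ blockDefect 2 B * (mu 2 z (bu hM P e z) χ χ).re := by
  obtain ⟨k, hk⟩ := pElt_of_mem h hz
  have hd := defect_bu_of_central h hB hz hc
  obtain ⟨y, hy, hli, he⟩ := exists_au_eq_li hM hk (induced_bu h hB hz) hd hχ hχ h0
  have hg := isGenChar_of_isIrr χ.2
  obtain ⟨a, ha⟩ := exists_int_of_mem_cycInt_two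
    (orderOf_dvd_of_pow_eq_one (show z ^ 2 = 1 by rw [pow_two, h2]))
    (au_mem_cycInt (p := 2) (bu hM P e z) hg hg)
  set t := blockHeight 2 B (χ : G → ℂ)
  have hyq : y = algebraMap ℚ ℂ ((a : ℚ) / 2 ^ t) := by
    rw [ha] at he
    simp only [eq_ratCast]
    push_cast at he ⊢
    rw [he]
    field_simp
  have hint : IsIntegral ℤ ((a : ℚ) / 2 ^ t) :=
    (isIntegral_algebraMap_iff (algebraMap ℚ ℂ).injective).1
      (hyq ▸ isIntegral_of_mem_cycInt (pow_ne_zero _ two_ne_zero) hy)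
  obtain ⟨c, hcq⟩ := IsIntegrallyClosed.isIntegral_iff.1 hint
  have hyc : y = (c : ℂ) := by rw [hyq, ← hcq]; simp
  rw [hyc, li_intCast_iff hM] at hli
  obtain ⟨c', rfl⟩ := hli
  have hre := congrArg Complex.re he
  rw [au, hd, hyc] at hre
  have e1 : (((2 : ℕ) : ℂ) ^ blockDefect 2 B * mu 2 z (bu hM P e z) χ χ).re =
      2 ^ blockDefect 2 B * (mu 2 z (bu hM P e z) χ χ).re := by
    rw [← Nat.cast_pow, ← Complex.ofReal_natCast, Complex.re_ofReal_mul]; push_cast; rfl
  have e2 : (((2 : ℕ) : ℂ) ^ t * (((2 : ℕ) * c' : ℤ) : ℂ)).re = 2 ^ (t + 1) * (c' : ℝ) := by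
    rw [← Nat.cast_pow, ← Complex.ofReal_natCast, Complex.re_ofReal_mul, Complex.intCast_re]
    push_cast; ring
  rw [e1, e2] at hre
  have hp := mul_pos (pow_pos two_pos (blockDefect 2 B)) (na_pos h hB hχ hz hc)
  rw [hre] at hp ⊢
  have h1 : (0 : ℝ) < c' := (mul_pos_iff_of_pos_left (by positivity)).1 hp
  have h3 : (1 : ℝ) ≤ c' := by exact_mod_cast (show (0 : ℤ) < c' by exact_mod_cast h1)
  exact le_mul_of_one_le_right (by positivity) h3

/-- three non-fused central elements, two of them of order at most two: no height `d - 2 > 0` -/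
theorem na_three (h : MaxPair 2 ⊤ ⊤ (eB hM B) P e) (hB : IsPBlock M B) {χ : IrrCharacter G}
    (hχ : χ ∈ B) (h0 : blockHeight 2 B (χ : G → ℂ) ≠ 0) {c w : G} (hc : c ∈ P ⊓ Cz P)
    (hw : w ∈ P ⊓ Cz P) (c1 : c ≠ 1) (w1 : w ≠ 1) (c2 : c * c = 1) (hn : ¬ Fus 2 P e c w) :
    blockHeight 2 B (χ : G → ℂ) + 2 < blockDefect 2 B := by
  classical
  have k : ∀ z ∈ P ⊓ Cz P, P ≤ Cu z := fun z hz x hx => mem_Cu.2 (mem_Cz.1 hz.2 x hx).symm
  have cw : c ≠ w := fun h' => hn (h' ▸ fus_refl h hc.1)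
  have h1 := na_sum_le h hB hχ (S := {1, c, w}) (by
    simp only [Finset.mem_insert, Finset.mem_singleton]
    rintro u (rfl | rfl | rfl)
    exacts [P.one_mem, hc.1, hw.1]) (by
    simp only [Finset.mem_insert, Finset.mem_singleton]
    rintro u (rfl | rfl | rfl) v (rfl | rfl | rfl) f
    exacts [rfl, f.eq_one'.symm, f.eq_one'.symm, f.eq_one, rfl, absurd f hn, f.eq_one,
      absurd (f.symm h) hn, rfl])
  rw [Finset.sum_insert (by simp [c1.symm, w1.symm]), Finset.sum_pair cw] at h1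
  have a1 := na_rat h hB hχ h0 P.one_mem (k 1 (one_mem _)) (one_mul 1)
  have a2 := na_rat h hB hχ h0 hc.1 (k c hc) c2
  have a3 := mul_pos (pow_pos two_pos (blockDefect 2 B)) (na_pos h hB hχ hw.1 (k w hw))
  have a4 := mul_le_mul_of_nonneg_left h1 (pow_pos (two_pos (α := ℝ)) (blockDefect 2 B)).le
  have : (2 : ℝ) ^ (blockHeight 2 B (χ : G → ℂ) + 2) < 2 ^ blockDefect 2 B := by
    rw [pow_succ _ (_ + 1)]
    linarith
  exact (pow_lt_pow_iff_right₀ one_lt_two).1 this

/-- **Nonabelian defect groups of order 16.** -/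
theorem nonab {G : Type*} [Group G] [Finite G] {M : Ideal AlgInt} (hM : IsPModular 2 M)
    {B : Set (IrrCharacter G)} (hB : IsPBlock M B) {D : Subgroup G} (hD : IsDefectGroup 2 M B D)
    (h16 : Nat.card D = 16) (hn : ¬ IsMulCommutative D) {χ : IrrCharacter G} (hχ : χ ∈ B) :
    blockHeight 2 B (χ : G → ℂ) < ((Subgroup.center D).index).factorization 2 := by
  have := Fintype.ofFinite G
  have := fun u : G => Fintype.ofFinite (Cu u)
  obtain ⟨e, h⟩ := Tame.exists_maxPair hM hB hD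
  have hP := h.pgroup
  have hna : ¬ D ≤ Cz D := fun h' => hn ⟨⟨fun a b => Subtype.ext (mem_Cz.1 (h' b.2) a a.2)⟩⟩
  have hd : blockDefect 2 B = 4 := Nat.pow_right_injective le_rfl
    ((card_eq_pow_blockDefect hM hB hD).symm.trans h16)
  obtain ⟨k, hk⟩ := hP.index (Subgroup.center D)
  have hZ := (Subgroup.center D).card_mul_index
  rw [Cover.card_center_eq, hk, h16] at hZ
  rw [hk, Nat.Prime.factorization_pow Nat.prime_two, Finsupp.single_eq_same]
  have h4 := KB.G16.four_le_center hP hna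
  have h5 := KB.G16.card_center D
  have hk2 : 2 ≤ k := by
    have : (Cz D).relIndex D = 2 ^ k :=
      Nat.eq_of_mul_eq_mul_left Nat.card_pos (h5.symm.trans (h16.trans hZ.symm))
    rw [this] at h4
    exact (Nat.pow_le_pow_iff_right one_lt_two).1 (show 2 ^ 2 ≤ 2 ^ k from h4)
  by_cases h0 : blockHeight 2 B (χ : G → ℂ) = 0
  · omega
  have hle := height_add_two_le hM hB hχ h0
  rcases hk2.eq_or_lt with rfl | hk3
  swap
  · omega
  have hZ4 : Nat.card (D ⊓ Cz D : Subgroup G) = 4 := by omega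
  obtain ⟨j, hj⟩ := KB.G16.exists_relIndex (K := ⁅D, D⁆) hP
  have h6 := KB.G16.four_le_commutator hP hna
  have h7 := KB.G16.two_le_card_commutator hna
  have h8 : Nat.card D = Nat.card (⁅D, D⁆ : Subgroup G) * (⁅D, D⁆ : Subgroup G).relIndex D := by
    rw [Sect.card_eq_relIndex ⁅D, D⁆ D, inf_eq_left.2 (KB.G16.commutator_le' D)]
  by_cases hc2 : Nat.card (⁅D, D⁆ : Subgroup G) = 2
  · obtain ⟨c, hc, c1, c2, cZ, hcc⟩ := KB.G16.exists_c hc2
    have : ¬ D ⊓ Cz D ≤ ⁅D, D⁆ := fun h' => by have := card_le_of_le h'; omega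
    obtain ⟨w, hw, hw'⟩ := SetLike.not_le_iff_exists.1 this
    have hcP : c ∈ D ⊓ Cz D := ⟨KB.G16.commutator_le' D hc, cZ⟩
    have := na_three h hB hχ h0 hcP hw c1 (fun h' => hw' (h' ▸ one_mem _)) c2 fun f => by
      obtain ⟨t, ht, rfl⟩ := Cover.exists_stN_of_fus h f cZ hw.2
      exact hw' ((mem_Nz.1 (LAE.le_normalizer_commutator le_rfl le_rfl ht.1.2) c).1 hc)
    omega
  · have h9 : (⁅D, D⁆ : Subgroup G).relIndex D = 4 := by
      rw [hj] at h6 h8 ⊢
      have : j < 3 := by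
        by_contra h'
        have := Nat.pow_le_pow_right two_pos (not_lt.1 h')
        have : 3 ≤ Nat.card (⁅D, D⁆ : Subgroup G) := by omega
        nlinarith
      interval_cases j <;> omega
    obtain ⟨m, r, x, y, hm, T⟩ := KB.exists_tm_of_taussky hP hna h9
    have hx : x * x ≠ 1 := fun h' => by
      have := Nat.le_of_dvd two_pos (orderOf_dvd_of_pow_eq_one (show x ^ 2 = 1 by rw [pow_two, h']))
      rw [T.ord] at this
      omega
    have : D ⊓ Cz D ≤ zpowers (x ^ m) := fun g hg => by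
      have g1 := T.mem_X_of_comm (mem_zpowers x) hx hg.1 (mem_Cz.1 hg.2 x T.x_mem)
      have g2 := (T.out_conj' T.y_mem T.notMem g1).symm.trans
        (mul_inv_eq_iff_eq_mul.2 (mem_Cz.1 hg.2 y T.y_mem))
      rcases T.eq_of_sq g1 ((T.pow_r_eq_iff g1).1 g2) with rfl | rfl
      exacts [one_mem _, mem_zpowers _]
    have := card_le_of_le this
    rw [Nat.card_zpowers, T.orderOf_z] at this
    omega

end CfsgLib.H16
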